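import Mathlib

/-! Krull dimension through specializations, and lifting of chains. -/

set_option autoImplicit false
set_option linter.style.haveILetI false

universe u v

open CategoryTheory AlgebraicGeometry

namespace Groth.Agent.DimLiftLib

theorem krullDim_le_of_lift {α : Type u} {β : Type v} [PartialOrder α] [PartialOrder β] (f : α → β)
    (hs : Function.Surjective f) (h : ∀ a b, b < f a → ∃ a', a' ≤ a ∧ f a' = b) :
    Order.krullDim β ≤ Order.krullDim α := by
  refine iSup_le fun p => ?_
  suffices H : ∃ q : LTSeries α, q.length = p.length ∧ f q.head = p.head by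
    obtain ⟨q, hq, -⟩ := H
    rw [← hq]
    exact le_iSup (fun q : LTSeries α => (q.length : WithBot ℕ∞)) q
  induction p using RelSeries.inductionOn with
  | singleton x =>
    obtain ⟨a, rfl⟩ := hs x
    exact ⟨RelSeries.singleton _ a, rfl, rfl⟩
  | cons p x hx ih =>
    obtain ⟨q, hq, hh⟩ := ih
    have hx' : x < f q.head := hh ▸ hx
    obtain ⟨a, ha, rfl⟩ := h q.head x hx'
    refine ⟨q.cons a (lt_of_le_of_ne ha fun e => hx'.ne (congrArg f e)), ?_, ?_⟩
    · simp [RelSeries.cons, RelSeries.append, hq]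
    · simp

theorem topologicalKrullDim_eq (X : Type u) [TopologicalSpace X] [QuasiSober X] [T0Space X] :
    topologicalKrullDim X = @Order.krullDim X (specializationOrder X).toPreorder :=
  letI := specializationOrder X
  Order.krullDim_eq_of_orderIso irreducibleSetEquivPoints

/-- Going down along a surjection bounds the dimension of the target. -/
theorem le_of_generalizingMap {X : Type u} {Y : Type v} [TopologicalSpace X] [QuasiSober X] [T0Space X]
    [TopologicalSpace Y] [QuasiSober Y] [T0Space Y] (f : X → Y) (hs : Function.Surjective f)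
    (hg : GeneralizingMap f) : topologicalKrullDim Y ≤ topologicalKrullDim X := by
  letI := specializationOrder X
  letI := specializationOrder Y
  rw [topologicalKrullDim_eq, topologicalKrullDim_eq, ← Order.krullDim_orderDual (α := Y),
    ← Order.krullDim_orderDual (α := X)]
  refine krullDim_le_of_lift (α := Xᵒᵈ) (β := Yᵒᵈ) (fun a => OrderDual.toDual (f (OrderDual.ofDual a))) hs fun a b hb => ?_
  have hsp : OrderDual.ofDual b ⤳ f (OrderDual.ofDual a) := le_of_lt hb
  obtain ⟨a', ha', he⟩ := hg hsp
  exact ⟨OrderDual.toDual a', ha', he⟩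

/-- Going up along a surjection bounds the dimension of the target. -/
theorem le_of_specializingMap {X : Type u} {Y : Type v} [TopologicalSpace X] [QuasiSober X] [T0Space X]
    [TopologicalSpace Y] [QuasiSober Y] [T0Space Y] (f : X → Y) (hs : Function.Surjective f)
    (hg : SpecializingMap f) : topologicalKrullDim Y ≤ topologicalKrullDim X := by
  letI := specializationOrder X
  letI := specializationOrder Y
  rw [topologicalKrullDim_eq, topologicalKrullDim_eq]
  refine krullDim_le_of_lift f hs fun a b hb => ?_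
  have hsp : f a ⤳ b := le_of_lt hb
  obtain ⟨a', ha', he⟩ := hg hsp
  exact ⟨a', ha', he⟩

/-- Incomparability for integral morphisms. -/
theorem eq_of_specializes {X Y : Scheme.{u}} (f : X ⟶ Y) [IsIntegralHom f] {x' x : X} (h : x' ⤳ x)
    (he : f x' = f x) : x' = x := by
  obtain ⟨V, hV, hxV, -⟩ := exists_isAffineOpen_mem_and_subset (x := f x) (U := (⊤ : Y.Opens)) trivial
  have hU : IsAffineOpen (f ⁻¹ᵁ V) := hV.preimage f
  have hx' : x' ∈ f ⁻¹ᵁ V := h.mem_open (f ⁻¹ᵁ V).2 hxV
  obtain ⟨P', rfl⟩ : x' ∈ Set.range hU.fromSpec := by rw [hU.range_fromSpec]; exact hx'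
  obtain ⟨P, rfl⟩ : x ∈ Set.range hU.fromSpec := by rw [hU.range_fromSpec]; exact hxV
  have hle : P' ⤳ P := hU.fromSpec.isOpenEmbedding.isInducing.specializes_iff.mp h
  letI := (f.app V).hom.toAlgebra
  haveI : Algebra.IsIntegral Γ(Y, V) Γ(X, f ⁻¹ᵁ V) := ⟨f.isIntegral_app V hV⟩
  have hc : ∀ Q : Spec Γ(X, f ⁻¹ᵁ V), f (hU.fromSpec Q) = hV.fromSpec (Spec.map (f.app V) Q) := fun Q => by
    rw [← Scheme.Hom.comp_apply, ← Scheme.Hom.comp_apply, Scheme.Hom.app_eq_appLE,
      hV.SpecMap_appLE_fromSpec f hU le_rfl]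
  rw [hc, hc] at he
  have hcomap := hV.fromSpec.isOpenEmbedding.injective he
  by_contra hne
  have hlt : (P' : PrimeSpectrum Γ(X, f ⁻¹ᵁ V)).asIdeal < (P : PrimeSpectrum Γ(X, f ⁻¹ᵁ V)).asIdeal :=
    lt_of_le_of_ne ((PrimeSpectrum.le_iff_specializes P' P).mpr hle) fun e => hne (congrArg _ (PrimeSpectrum.ext e))
  haveI := (P' : PrimeSpectrum Γ(X, f ⁻¹ᵁ V)).2
  exact (Ideal.IsIntegral.comap_lt_comap (R := Γ(Y, V)) hlt).ne (congrArg PrimeSpectrum.asIdeal hcomap)

theorem le_of_isIntegralHom {X Y : Scheme.{u}} (f : X ⟶ Y) [IsIntegralHom f] :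
    topologicalKrullDim X ≤ topologicalKrullDim Y := by
  letI := specializationOrder X
  letI := specializationOrder Y
  rw [topologicalKrullDim_eq, topologicalKrullDim_eq]
  refine Order.krullDim_le_of_strictMono f.base fun a b hab => ?_
  refine lt_of_le_of_ne (show f b ⤳ f a from (show b ⤳ a from le_of_lt hab).map f.continuous) fun e => ?_
  exact hab.ne (eq_of_specializes f (show b ⤳ a from le_of_lt hab) e.symm).symm

end Groth.Agent.DimLiftLib
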